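/-
Complexes of flat modules over an artinian local ring with exact reduction.
-/
import Groth.Agent.DefLib.ArtFlat
import Mathlib

set_option autoImplicit false
set_option backward.isDefEq.respectTransparency false

universe u

open CategoryTheory TensorProduct IsLocalRing

namespace ArtFlatCxLib

variable {A : Type u} [CommRing A] [IsLocalRing A] [IsArtinianRing A]

theorem one_tmul_eq_zero_iff {M : Type u} [AddCommGroup M] [Module A M] (x : M) :
    (1 : ResidueField A) ⊗ₜ[A] x = 0 ↔ x ∈ maximalIdeal A • (⊤ : Submodule A M) := by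
  have h := TensorProduct.quotTensorEquivQuotSMul_mk_tmul (maximalIdeal A) (1 : A) x
  rw [one_smul] at h
  refine ((TensorProduct.quotTensorEquivQuotSMul M (maximalIdeal A)).map_eq_zero_iff).symm.trans ?_
  refine Iff.trans (Iff.of_eq (congrArg (· = 0) h)) ?_
  exact Submodule.Quotient.mk_eq_zero _

theorem isNilpotent_maximalIdeal : IsNilpotent (maximalIdeal A) := by
  rw [← jacobson_eq_maximalIdeal (⊥ : Ideal A) bot_ne_top]
  exact IsArtinianRing.isNilpotent_jacobson_bot

theorem eq_top_of_sup_eq_top {M : Type u} [AddCommGroup M] [Module A M] (N : Submodule A M)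
    (h : ∀ x, ∃ y ∈ N, x - y ∈ maximalIdeal A • (⊤ : Submodule A M)) : N = ⊤ := by
  obtain ⟨e, he⟩ := isNilpotent_maximalIdeal (A := A)
  have hstep : ∀ i, (⊤ : Submodule A M) ≤ N ⊔ maximalIdeal A ^ i • ⊤ := by
    intro i
    induction i with
    | zero => simp
    | succ i ih =>
      refine ih.trans (sup_le le_sup_left (Submodule.smul_le.2 fun a ha x _ => ?_))
      obtain ⟨y, hy, hxy⟩ := h x
      rw [show a • x = a • y + a • (x - y) by rw [smul_sub, add_sub_cancel]]
      refine Submodule.add_mem_sup (N.smul_mem a hy) ?_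
      rw [pow_succ, Submodule.mul_smul]
      exact Submodule.smul_mem_smul ha hxy
  have := hstep e
  rw [he, Ideal.zero_eq_bot, Submodule.bot_smul, sup_bot_eq] at this
  exact top_le_iff.1 this

theorem flat_of_reduction_injective {M F : Type u} [AddCommGroup M] [Module A M]
    [AddCommGroup F] [Module A F] [Module.Flat A F] (f : M →ₗ[A] F)
    (hf : Function.Injective (f.lTensor (ResidueField A))) :
    Module.Flat A M ∧ Module.Flat A (F ⧸ LinearMap.range f) := by
  classical
  let k := ResidueField A
  have hmk : ∀ (N : Type u) [AddCommGroup N] [Module A N],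
      Function.Surjective (TensorProduct.mk A k N 1) := fun N _ _ =>
    TensorProduct.mk_surjective A N k residue_surjective
  let b := Module.Free.chooseBasis k (k ⊗[A] M)
  choose m hm using fun i => hmk M (b i)
  let ι := Module.Free.ChooseBasisIndex k (k ⊗[A] M)
  let g : (ι →₀ A) →ₗ[A] M := Finsupp.linearCombination A m
  let bG : Module.Basis ι A (ι →₀ A) := Finsupp.basisSingleOne
  have hg : Function.Bijective (g.baseChange k) := by
    have he : g.baseChange k = ((bG.baseChange k).equiv b (Equiv.refl ι)).toLinearMap := by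
      refine (bG.baseChange k).ext fun i => ?_
      rw [LinearEquiv.coe_coe, Module.Basis.equiv_apply, Module.Basis.baseChange_apply,
        LinearMap.baseChange_tmul]
      have : g (bG i) = m i := by simp [g, bG]
      rw [this]
      exact hm i
    rw [he]
    exact LinearEquiv.bijective _
  have hgs : Function.Surjective g := by
    rw [← LinearMap.range_eq_top]
    refine eq_top_of_sup_eq_top _ fun x => ?_
    obtain ⟨z, hz⟩ := hg.2 ((1 : k) ⊗ₜ x)
    obtain ⟨y, rfl⟩ := hmk _ z
    refine ⟨g y, LinearMap.mem_range_self g y, ?_⟩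
    rw [← one_tmul_eq_zero_iff, tmul_sub, sub_eq_zero]
    exact hz.symm
  have hcomp : Function.Injective ((f ∘ₗ g).baseChange k) := by
    rw [LinearMap.baseChange_comp]
    exact hf.comp hg.1
  obtain ⟨l, hl⟩ := LinearMap.exists_leftInverse_of_injective _ (LinearMap.ker_eq_bot.2 hcomp)
  have : Module.Free A F := DefLib.free_of_flat_of_nilpotent isNilpotent_maximalIdeal
  obtain ⟨r, hr⟩ := Module.projective_lifting_property (TensorProduct.mk A k (ι →₀ A) 1)
    ((l.restrictScalars A) ∘ₗ TensorProduct.mk A k F 1) (hmk _)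
  let h : Module.End A (ι →₀ A) := r ∘ₗ f ∘ₗ g
  have hh : ∀ x, x - h x ∈ maximalIdeal A • (⊤ : Submodule A (ι →₀ A)) := fun x => by
    rw [← one_tmul_eq_zero_iff, tmul_sub, sub_eq_zero]
    have h1 := LinearMap.congr_fun hl ((1 : k) ⊗ₜ x)
    have h2 := LinearMap.congr_fun hr (f (g x))
    refine Eq.symm (h2.trans ?_)
    exact h1
  have hnil : IsNilpotent (1 - h) := by
    obtain ⟨e, he⟩ := isNilpotent_maximalIdeal (A := A)
    refine ⟨e, LinearMap.ext fun x => ?_⟩
    have : ∀ i, ((1 - h) ^ i) x ∈ maximalIdeal A ^ i • (⊤ : Submodule A (ι →₀ A)) := by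
      intro i
      induction i with
      | zero => simp
      | succ i ih =>
        rw [pow_succ' (1 - h), Module.End.mul_apply, pow_succ (maximalIdeal A), Submodule.mul_smul]
        have hmap : Submodule.map (1 - h) (maximalIdeal A ^ i • ⊤) ≤
            maximalIdeal A ^ i • (maximalIdeal A • ⊤) := by
          rw [Submodule.map_smul'']
          refine Submodule.smul_mono le_rfl ?_
          rintro _ ⟨y, -, rfl⟩
          exact hh y
        exact hmap ⟨_, ih, rfl⟩
    have := this e
    rwa [he, Ideal.zero_eq_bot, Submodule.bot_smul, Submodule.mem_bot] at this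
  have hunit : IsUnit h := by
    have := IsNilpotent.isUnit_one_sub (R := Module.End A (ι →₀ A)) (r := 1 - h) hnil
    have e : (1 : Module.End A (ι →₀ A)) - (1 - h) = h := sub_sub_cancel 1 h
    exact e ▸ this
  obtain ⟨u, hu⟩ := hunit
  let ρ : F →ₗ[A] (ι →₀ A) := (↑u⁻¹ : Module.End A (ι →₀ A)) ∘ₗ r
  have hρ : ρ ∘ₗ (f ∘ₗ g) = LinearMap.id := by
    show (↑u⁻¹ : Module.End A (ι →₀ A)) * h = 1
    rw [← hu, Units.inv_mul]
  have hgi : Function.Injective g := fun x y hxy => by
    have hx := LinearMap.congr_fun hρ x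
    have hy := LinearMap.congr_fun hρ y
    simp only [LinearMap.comp_apply, LinearMap.id_apply] at hx hy
    rw [← hx, ← hy, hxy]
  refine ⟨Module.Flat.of_linearEquiv (LinearEquiv.ofBijective g ⟨hgi, hgs⟩).symm, ?_⟩
  have hker : LinearMap.range f ≤ LinearMap.ker (LinearMap.id - (f ∘ₗ g) ∘ₗ ρ) := by
    rintro _ ⟨x, rfl⟩
    obtain ⟨y, rfl⟩ := hgs x
    have hy := LinearMap.congr_fun hρ y
    simp only [LinearMap.comp_apply, LinearMap.id_apply] at hy
    simp [LinearMap.mem_ker, hy]
  refine Module.Flat.of_retract ((LinearMap.range f).liftQ _ hker) (LinearMap.range f).mkQ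
    (Submodule.linearMap_qext _ (LinearMap.ext fun y => ?_))
  simp only [LinearMap.comp_apply, Submodule.mkQ_apply, Submodule.liftQ_apply, LinearMap.sub_apply,
    LinearMap.id_apply, Submodule.Quotient.mk_sub, sub_eq_self, Submodule.Quotient.mk_eq_zero]
  exact LinearMap.mem_range_self f _

open Limits MonoidalCategory in
theorem main (n : ℕ) (C : CochainComplex (ModuleCat.{u} A) ℕ)
    (hflat : ∀ i, i ≤ n → Module.Flat A (C.X (i + 1)))
    (hred : ∀ j, j ≤ n →
      (((tensorLeft (ModuleCat.of A (IsLocalRing.ResidueField A))).mapHomologicalComplex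
        (ComplexShape.up ℕ)).obj C).ExactAt j) :
    Module.Flat A (C.X 0) ∧
      Module.Flat A (C.X (n + 1) ⧸ LinearMap.range (C.d n (n + 1)).hom) := by
  let k := ResidueField A
  have h0 : Function.Injective ((C.d 0 1).hom.lTensor k) := by
    have h := hred 0 (Nat.zero_le n)
    rw [HomologicalComplex.exactAt_iff' _ 0 0 1 (by simp) (by simp),
      ShortComplex.moduleCat_exact_iff] at h
    refine (injective_iff_map_eq_zero _).2 fun x hx => ?_
    obtain ⟨y, hy⟩ := h x hx
    rw [← hy]
    simp only [HomologicalComplex.shortComplexFunctor'_obj_f]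
    rw [HomologicalComplex.shape _ 0 0 (by simp)]
    rfl
  haveI : Module.Flat A (C.X 1) := hflat 0 (Nat.zero_le n)
  have main0 := flat_of_reduction_injective (C.d 0 1).hom
  have hind : ∀ j, j ≤ n → Module.Flat A (C.X (j + 1) ⧸ LinearMap.range (C.d j (j + 1)).hom) := by
    intro j
    induction j with
    | zero =>
      intro hj
      have := hflat 0 hj
      exact (main0 h0).2
    | succ j ih =>
      intro hj
      have := ih (by omega)
      have := hflat (j + 1) hj
      let N := LinearMap.range (C.d j (j + 1)).hom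
      let d' : (C.X (j + 1) ⧸ N) →ₗ[A] C.X (j + 1 + 1) := N.liftQ (C.d (j + 1) (j + 1 + 1)).hom (by
        rintro _ ⟨x, rfl⟩
        exact ConcreteCategory.congr_hom (C.d_comp_d j (j + 1) (j + 1 + 1)) x)
      have hr : LinearMap.range d' = LinearMap.range (C.d (j + 1) (j + 1 + 1)).hom :=
        Submodule.range_liftQ _ _ _
      rw [← hr]
      refine (flat_of_reduction_injective d' ?_).2
      refine (injective_iff_map_eq_zero _).2 fun z hz => ?_
      obtain ⟨x, rfl⟩ := LinearMap.lTensor_surjective k N.mkQ_surjective z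
      have hx : (C.d (j + 1) (j + 1 + 1)).hom.lTensor k x = 0 := by
        rw [← LinearMap.comp_apply, ← LinearMap.lTensor_comp, show d' ∘ₗ N.mkQ =
          (C.d (j + 1) (j + 1 + 1)).hom from Submodule.liftQ_mkQ _ _ _] at hz
        exact hz
      have h := hred (j + 1) hj
      rw [HomologicalComplex.exactAt_iff' _ j (j + 1) (j + 1 + 1) (by simp) (by simp),
        ShortComplex.moduleCat_exact_iff] at h
      obtain ⟨y, hy⟩ := h x hx
      rw [← hy]
      show N.mkQ.lTensor k ((C.d j (j + 1)).hom.lTensor k y) = 0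
      rw [← LinearMap.comp_apply, ← LinearMap.lTensor_comp, LinearMap.range_mkQ_comp,
        LinearMap.lTensor_zero, LinearMap.zero_apply]
  have := hflat 0 (Nat.zero_le n)
  exact ⟨(main0 h0).1, hind n le_rfl⟩

end ArtFlatCxLib
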